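import Groth.Agent.DRingKP.Tor
import Groth.Agent.DRingKP.Fibre2
import Mathlib.RingTheory.Localization.Away.Basic
import Mathlib.Algebra.Module.LocalizedModule.Basic
import Mathlib.RingTheory.TensorProduct.Basic

/-!
# Flatness of complexes from `R/f` and `R_f`
-/

set_option autoImplicit false
set_option backward.isDefEq.respectTransparency false
set_option linter.style.haveILetI false

universe u

open CategoryTheory Limits DerivedCategory MonoidalCategory HomologicalComplex
open Groth.Agent.DRingKP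

attribute [local instance] HasDerivedCategory.standard

noncomputable section

namespace Groth.Agent.FlatGlue

variable {R : Type u} [CommRing R] {P : DRing.Cx R}

/-- the map of complexes given by a map of coefficient modules -/
theorem shortExact_tR (hP : DRing.TermwiseFlat P) {S : ShortComplex (ModuleCat.{u} R)} (hS : S.ShortExact) :
    ∃ T : ShortComplex (DRing.Cx R), T.ShortExact ∧ T.X₁ = (tR S.X₁).obj P ∧ T.X₂ = (tR S.X₂).obj P ∧
      T.X₃ = (tR S.X₃).obj P := by
  let T : ShortComplex (DRing.Cx R) := ShortComplex.mk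
    ((NatTrans.mapHomologicalComplex ((tensoringRight (ModuleCat.{u} R)).map S.f) _).app P)
    ((NatTrans.mapHomologicalComplex ((tensoringRight (ModuleCat.{u} R)).map S.g) _).app P)
    (by
      ext n : 1
      change P.X n ◁ S.f ≫ P.X n ◁ S.g = 0
      rw [← MonoidalCategory.whiskerLeft_comp, S.zero, MonoidalPreadditive.whiskerLeft_zero])
  refine ⟨T, HomologicalComplex.shortExact_of_degreewise_shortExact T fun n => ?_, rfl, rfl, rfl⟩
  haveI : Module.Flat R (P.X n) := hP n
  haveI : PreservesFiniteLimits (tensorLeft (P.X n)) := inferInstance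
  haveI : PreservesFiniteColimits (tensorLeft (P.X n)) := inferInstance
  exact hS.map_of_exact (tensorLeft (P.X n))

theorem isZero_tR_left (hP : DRing.TermwiseFlat P) {S : ShortComplex (ModuleCat.{u} R)} (hS : S.ShortExact)
    (i j : ℤ) (hij : i + 1 = j) (h₃ : IsZero (((tR S.X₃).obj P).homology i))
    (h₂ : IsZero (((tR S.X₂).obj P).homology j)) : IsZero (((tR S.X₁).obj P).homology j) := by
  obtain ⟨T, hT, e1, e2, e3⟩ := shortExact_tR hP hS
  rw [← e1]
  rw [← e3] at h₃
  rw [← e2] at h₂
  exact (hT.homology_exact₁ i j (by simpa using hij)).isZero_of_both_zeros (h₃.eq_of_src _ _) (h₂.eq_of_tgt _ _)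

theorem isZero_tR_congr_iso {M M' : ModuleCat.{u} R} (e : M ≅ M') (i : ℤ)
    (h : IsZero (((tR M).obj P).homology i)) : IsZero (((tR M').obj P).homology i) :=
  h.of_iso ((HomologicalComplex.homologyFunctor _ _ i).mapIso
    ((NatIso.mapHomologicalComplex ((tensoringRight (ModuleCat.{u} R)).mapIso e.symm) _).app P))

/-- modules killed by a power of `f` -/
theorem isZero_tR_pow (f : R) (hP : DRing.TermwiseFlat P) (i : ℤ)
    (h : ∀ N : ModuleCat.{u} (R ⧸ Ideal.span ({f} : Set R)), IsZero (((tR ((ModuleCat.restrictScalars.{u}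
      (algebraMap R (R ⧸ Ideal.span ({f} : Set R)))).obj N)).obj P).homology i)) :
    ∀ (l : ℕ) (M : ModuleCat.{u} R), (∀ x : M, f ^ l • x = 0) → IsZero (((tR M).obj P).homology i) := by
  intro l
  induction l with
  | zero =>
    intro M hM
    haveI : Subsingleton M := subsingleton_of_forall_eq 0 fun x => by simpa using hM x
    exact ShortComplex.isZero_homology_of_isZero_X₂ _
      ((tensorLeft (P.X i)).map_isZero (ModuleCat.isZero_of_subsingleton M))
  | succ l ih =>
    intro M hM
    have hJ : RingHom.ker (algebraMap R (R ⧸ Ideal.span ({f} : Set R))) = Ideal.span {f} := Ideal.mk_ker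
    let J : Submodule R M := RingHom.ker (algebraMap R (R ⧸ Ideal.span ({f} : Set R))) • ⊤
    let S : ShortComplex (ModuleCat.{u} R) := ShortComplex.mk
      (ModuleCat.ofHom J.subtype) (ModuleCat.ofHom J.mkQ)
      (by ext ⟨x, hx⟩; exact (Submodule.Quotient.mk_eq_zero _).2 hx)
    have hS : S.ShortExact :=
      { exact := (ShortComplex.moduleCat_exact_iff_range_eq_ker _).2 (by simp [S])
        mono_f := (ModuleCat.mono_iff_injective _).2 J.injective_subtype
        epi_g := (ModuleCat.epi_iff_surjective _).2 (Submodule.mkQ_surjective _) }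
    obtain ⟨N, ⟨eN⟩⟩ := exists_top_quotient (A := R) (B := R ⧸ Ideal.span ({f} : Set R)) Ideal.Quotient.mk_surjective M
    refine isZero_tR_ext hP hS i (ih _ fun x => Subtype.ext ?_) (isZero_tR_congr_iso eN i (h N))
    change f ^ l • x.1 = (0 : M)
    refine Submodule.smul_induction_on (p := fun y => f ^ l • y = (0 : M)) x.2 (fun r hr y _ => ?_)
      (fun y z hy hz => by rw [smul_add, hy, hz, add_zero])
    rw [hJ, Ideal.mem_span_singleton'] at hr
    obtain ⟨c, rfl⟩ := hr
    rw [smul_smul, show f ^ l * (c * f) = c * f ^ (l + 1) by ring, ← smul_smul, hM, smul_zero]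

open TensorProduct in
/-- modules in which every element is killed by a power of `f` -/
theorem isZero_tR_torsion (f : R) (hP : DRing.TermwiseFlat P) (i : ℤ)
    (h : ∀ (l : ℕ) (M : ModuleCat.{u} R), (∀ x : M, f ^ l • x = 0) → IsZero (((tR M).obj P).homology i))
    (M : ModuleCat.{u} R) (hM : ∀ x : M, ∃ l : ℕ, f ^ l • x = 0) : IsZero (((tR M).obj P).homology i) := by
  rw [← exactAt_iff_isZero_homology, exactAt_iff' _ (i - 1) i (i + 1) (by simp) (by simp),
    ShortComplex.moduleCat_exact_iff]
  intro (x : P.X i ⊗[R] M) hx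
  let T : ℕ → Submodule R M := fun l => LinearMap.ker (f ^ l • LinearMap.id)
  have hmem : ∀ l (y : M), y ∈ T l ↔ f ^ l • y = 0 := fun l y => by simp [T]
  have hmono : ∀ {l l'}, l ≤ l' → T l ≤ T l' := fun {l l'} hl y hy => (hmem l' y).2 (by
    rw [← Nat.sub_add_cancel hl, pow_add, ← smul_smul, (hmem l y).1 hy, smul_zero])
  have hx' : ∃ l, x ∈ LinearMap.range (LinearMap.lTensor (P.X i) (T l).subtype) := by
    clear hx
    induction x using TensorProduct.induction_on with
    | zero => exact ⟨0, zero_mem _⟩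
    | tmul a y =>
      obtain ⟨l, hl⟩ := hM y
      exact ⟨l, a ⊗ₜ ⟨y, (hmem l y).2 hl⟩, rfl⟩
    | add a b ha hb =>
      obtain ⟨la, a', rfl⟩ := ha
      obtain ⟨lb, b', rfl⟩ := hb
      refine ⟨max la lb, LinearMap.lTensor (P.X i) (Submodule.inclusion (hmono (le_max_left la lb))) a' +
        LinearMap.lTensor (P.X i) (Submodule.inclusion (hmono (le_max_right la lb))) b', ?_⟩
      rw [map_add, ← LinearMap.comp_apply, ← LinearMap.comp_apply, ← LinearMap.lTensor_comp,
        ← LinearMap.lTensor_comp]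
      rfl
  obtain ⟨l, x', rfl⟩ := hx'
  have hz := h l (ModuleCat.of R (T l)) fun y => Subtype.ext ((hmem l y.1).1 y.2)
  rw [← exactAt_iff_isZero_homology, exactAt_iff' _ (i - 1) i (i + 1) (by simp) (by simp),
    ShortComplex.moduleCat_exact_iff] at hz
  haveI : Module.Flat R (P.X (i + 1)) := hP (i + 1)
  have hcomm : ∀ (a b : ℤ) (z : P.X a ⊗[R] T l),
      ((P.d a b).hom.rTensor M) (LinearMap.lTensor (P.X a) (T l).subtype z) =
        LinearMap.lTensor (P.X b) (T l).subtype ((P.d a b).hom.rTensor (T l) z) := fun a b z => by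
    rw [← LinearMap.comp_apply, ← LinearMap.comp_apply, LinearMap.rTensor_comp_lTensor,
      LinearMap.lTensor_comp_rTensor]
  obtain ⟨z, hz'⟩ := hz x' (Module.Flat.lTensor_preserves_injective_linearMap (T l).subtype
    (T l).injective_subtype (by
      show LinearMap.lTensor (P.X (i + 1)) (T l).subtype ((P.d i (i + 1)).hom.rTensor (T l) x') =
        LinearMap.lTensor (P.X (i + 1)) (T l).subtype 0
      rw [map_zero, ← hcomm]
      exact hx))
  refine ⟨LinearMap.lTensor (P.X (i - 1)) (T l).subtype z, ?_⟩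
  exact (hcomm (i - 1) i z).trans (congrArg _ hz')

/-- all modules -/
theorem isZero_tR_glue (f : R) (hP : DRing.TermwiseFlat P) (i : ℤ)
    (hq : ∀ (j : ℤ), j ≤ i → ∀ N : ModuleCat.{u} (R ⧸ Ideal.span ({f} : Set R)), IsZero (((tR ((ModuleCat.restrictScalars.{u}
      (algebraMap R (R ⧸ Ideal.span ({f} : Set R)))).obj N)).obj P).homology j))
    (hl : ∀ N : ModuleCat.{u} (Localization.Away f), IsZero (((tR ((ModuleCat.restrictScalars.{u}
      (algebraMap R (Localization.Away f))).obj N)).obj P).homology i))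
    (M : ModuleCat.{u} R) : IsZero (((tR M).obj P).homology i) := by
  have htor : ∀ j, j ≤ i → ∀ M : ModuleCat.{u} R, (∀ x : M, ∃ l : ℕ, f ^ l • x = 0) →
      IsZero (((tR M).obj P).homology j) := fun j hj =>
    isZero_tR_torsion f hP j (isZero_tR_pow f hP j (hq j hj))
  let S₀ := Submonoid.powers f
  let g : M →ₗ[R] LocalizedModule S₀ M := LocalizedModule.mkLinearMap S₀ M
  let N : ModuleCat.{u} (Localization.Away f) := ModuleCat.of (Localization S₀) (LocalizedModule S₀ M)
  let eL : (ModuleCat.restrictScalars.{u} (algebraMap R (Localization.Away f))).obj N ≃ₗ[R]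
      LocalizedModule S₀ M :=
      { toFun := fun x => x
        invFun := fun x => x
        map_add' := fun _ _ => rfl
        map_smul' := fun r x => IsScalarTower.algebraMap_smul (M := LocalizedModule S₀ M) (Localization S₀) r x
        left_inv := fun _ => rfl
        right_inv := fun _ => rfl }
  let e : (ModuleCat.restrictScalars.{u} (algebraMap R (Localization.Away f))).obj N ≅
      ModuleCat.of R (LocalizedModule S₀ M) := eL.toModuleIso
  let S : ShortComplex (ModuleCat.{u} R) := ShortComplex.mk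
    (ModuleCat.ofHom (LinearMap.ker g).subtype) (ModuleCat.ofHom g.rangeRestrict)
    (by ext ⟨x, hx⟩; exact hx)
  have hS : S.ShortExact :=
    { exact := (ShortComplex.moduleCat_exact_iff_range_eq_ker _).2 (by simp [S, LinearMap.ker_rangeRestrict])
      mono_f := (ModuleCat.mono_iff_injective _).2 (LinearMap.ker g).injective_subtype
      epi_g := (ModuleCat.epi_iff_surjective _).2 g.surjective_rangeRestrict }
  let S' : ShortComplex (ModuleCat.{u} R) := ShortComplex.mk
    (ModuleCat.ofHom (LinearMap.range g).subtype) (ModuleCat.ofHom (LinearMap.range g).mkQ)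
    (by ext ⟨x, hx⟩; exact (Submodule.Quotient.mk_eq_zero _).2 hx)
  have hS' : S'.ShortExact :=
    { exact := (ShortComplex.moduleCat_exact_iff_range_eq_ker _).2 (by simp [S'])
      mono_f := (ModuleCat.mono_iff_injective _).2 (LinearMap.range g).injective_subtype
      epi_g := (ModuleCat.epi_iff_surjective _).2 (Submodule.mkQ_surjective _) }
  refine isZero_tR_ext hP hS i (htor i le_rfl _ fun x => ?_)
    (isZero_tR_left hP hS' (i - 1) i (by lia) (htor (i - 1) (by lia) _ fun x => ?_) (isZero_tR_congr_iso e i (hl N)))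
  · obtain ⟨⟨_, l, rfl⟩, hc⟩ := (IsLocalizedModule.eq_zero_iff S₀ g).1 (LinearMap.mem_ker.1 x.2)
    exact ⟨l, Subtype.ext hc⟩
  · obtain ⟨y, rfl⟩ := Submodule.Quotient.mk_surjective _ x
    obtain ⟨⟨m, ⟨_, l, rfl⟩⟩, hm⟩ := IsLocalizedModule.surj S₀ g y
    exact ⟨l, (Submodule.Quotient.mk_eq_zero _).2 ⟨m, hm.symm⟩⟩

/-- vanishing for modules over `B` from the base change -/
theorem isZero_tR_of_flat_bc {B : Type u} [CommRing B] [Algebra R B] [DRing.HasLBaseChange (algebraMap R B)]
    (M : Dual.D R) (hPb : DRing.VanishesAbove P 0) (hPp : ∀ i, Projective (P.X i)) (eP : DRing.toD P ≅ M)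
    (h : ∃ (N : Type u) (_ : AddCommGroup N) (_ : Module B N),
      Module.Flat B N ∧ Nonempty ((DRing.LBaseChange (algebraMap R B)).obj M ≅ Dual.inD B N))
    (i : ℤ) (hi : i < 0) (N : ModuleCat.{u} B) :
    IsZero (((tR ((ModuleCat.restrictScalars.{u} (algebraMap R B)).obj N)).obj P).homology i) := by
  obtain ⟨N₀, _, _, hN₀, ⟨e₀⟩⟩ := h
  have hamp : DRing.HasTorAmplitudeIn B 0 0 ((DRing.LBaseChange (algebraMap R B)).obj M) :=
    amp_of_iso e₀.symm ((amp_zero_iff_flat N₀).2 hN₀)
  haveI := isKProjective_of_vanishesAbove hPb hPp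
  obtain ⟨Q, hQb, hQ, ⟨eQ⟩⟩ := exists_proj_rep_top _ 0 (torVan_isAbove hamp)
  haveI := isKProjective_of_vanishesAbove hQb hQ
  let e : DRing.toD Q ≅ DRing.toD ((bc (algebraMap R B)).obj P) :=
    eQ ≪≫ (DRing.LBaseChange (algebraMap R B)).mapIso eP.symm ≪≫ lBaseChangeIso (algebraMap R B) P
  exact isZero_tR_res (isKFlat_of_bounded hPb (flat_of_projective hPp))
    (isKFlat_of_bounded hQb (flat_of_projective hQ)) e N i
    (torVan_rep (torVan_of_amp hamp) hQb (flat_of_projective hQ) eQ N i (Or.inl hi))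

theorem exists_flat_inD (f : R) (M : Dual.D R)
    [DRing.HasLBaseChange (algebraMap R (Localization.Away f))]
    [DRing.HasLBaseChange (Ideal.Quotient.mk (Ideal.span ({f} : Set R)))]
    (h1 : ∀ i : ℤ, 0 < i → Subsingleton (Dual.HD R M i))
    (h2 : ∃ (N : Type u) (_ : AddCommGroup N) (_ : Module (Localization.Away f) N),
      Module.Flat (Localization.Away f) N ∧
        Nonempty ((DRing.LBaseChange (algebraMap R (Localization.Away f))).obj M ≅ Dual.inD (Localization.Away f) N))
    (h3 : ∃ (N : Type u) (_ : AddCommGroup N) (_ : Module (R ⧸ Ideal.span ({f} : Set R)) N),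
      Module.Flat (R ⧸ Ideal.span ({f} : Set R)) N ∧
        Nonempty ((DRing.LBaseChange (Ideal.Quotient.mk (Ideal.span ({f} : Set R)))).obj M ≅
          Dual.inD (R ⧸ Ideal.span ({f} : Set R)) N)) :
    ∃ (N : Type u) (_ : AddCommGroup N) (_ : Module R N), Module.Flat R N ∧ Nonempty (M ≅ Dual.inD R N) := by
  haveI : DRing.HasLBaseChange (algebraMap R (R ⧸ Ideal.span ({f} : Set R))) :=
    ‹DRing.HasLBaseChange (Ideal.Quotient.mk (Ideal.span ({f} : Set R)))›
  have hab : IsAbove (0 + 1) M := fun i hi =>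
    haveI := h1 i (by lia)
    @ModuleCat.isZero_of_subsingleton _ _ ((DerivedCategory.homologyFunctor (ModuleCat.{u} R) i).obj M) this
  obtain ⟨P, hPb, hPp, ⟨eP⟩⟩ := exists_proj_rep_top M 0 hab
  have hamp : DRing.HasTorAmplitudeIn R 0 0 M :=
    amp_iff_torVan.2 ⟨P, 0, hPb, flat_of_projective hPp, ⟨eP⟩, fun N i hi => by
      rcases hi with hi | hi
      · exact isZero_tR_glue f (flat_of_projective hPp) i
          (fun j hj => isZero_tR_of_flat_bc M hPb hPp eP h3 j (by lia))
          (isZero_tR_of_flat_bc M hPb hPp eP h2 i hi) N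
      · exact ShortComplex.isZero_homology_of_isZero_X₂ _ ((tensorRight N).map_isZero (hPb i hi))⟩
  obtain ⟨E, hE, hEf, ⟨e⟩⟩ := id hamp
  haveI : E.IsStrictlyLE 0 := (CochainComplex.isStrictlyLE_iff E 0).2 fun i hi => hE i (Or.inr hi)
  haveI : E.IsStrictlyGE 0 := (CochainComplex.isStrictlyGE_iff E 0).2 fun i hi => hE i (Or.inl hi)
  obtain ⟨X, ⟨eX⟩⟩ := CochainComplex.exists_iso_single E 0
  let eM : M ≅ Dual.inD R X := e.symm ≪≫ DerivedCategory.Q.mapIso eX ≪≫
    ((DerivedCategory.singleFunctorIsoCompQ (ModuleCat.{u} R) 0).app X).symm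
  exact ⟨X, inferInstance, inferInstance, (amp_zero_iff_flat X).1 (amp_of_iso eM hamp), ⟨eM⟩⟩

end Groth.Agent.FlatGlue
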